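import Mathlib.AlgebraicGeometry.OpenImmersion
import Mathlib.AlgebraicGeometry.Restrict

set_option autoImplicit false
universe u
open CategoryTheory AlgebraicGeometry TopologicalSpace

namespace Groth.Agent.SchDenseMono

theorem app_injective_iff {B X : Scheme.{u}} (g : B ⟶ X) [IsOpenImmersion g] (V : X.Opens) :
    Function.Injective (g.app V).hom ↔
      Function.Injective (X.presheaf.map (homOfLE (inf_le_left : V ⊓ g.opensRange ≤ V)).op).hom := by
  haveI := g.isIso_app (V ⊓ g.opensRange) inf_le_right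
  have hi : (V ⊓ g.opensRange : X.Opens) ≤ V := inf_le_left
  have hle : g ⁻¹ᵁ (V ⊓ g.opensRange) = g ⁻¹ᵁ V := by
    ext b; simp [Scheme.Hom.mem_preimage]
  have hnat := g.naturality (homOfLE hi).op
  haveI : IsIso ((Opens.map g.base).map (homOfLE hi)).op := by
    haveI : IsIso ((Opens.map g.base).map (homOfLE hi)) :=
      ⟨homOfLE hle.ge, Subsingleton.elim _ _, Subsingleton.elim _ _⟩
    infer_instance
  have hc := congrArg (fun k : Γ(X, V) ⟶ Γ(B, g ⁻¹ᵁ (V ⊓ g.opensRange)) => ⇑k.hom) hnat
  simp only [CommRingCat.hom_comp, RingHom.coe_comp] at hc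
  have b1 := ConcreteCategory.bijective_of_isIso (g.app (V ⊓ g.opensRange))
  have b2 := ConcreteCategory.bijective_of_isIso (B.presheaf.map ((Opens.map g.base).map (homOfLE hi)).op)
  constructor
  · intro h
    refine Function.Injective.of_comp (f := (g.app (V ⊓ g.opensRange)).hom) ?_
    exact hc ▸ b2.1.comp h
  · intro h
    refine Function.Injective.of_comp (f := (B.presheaf.map ((Opens.map g.base).map (homOfLE hi)).op).hom) ?_
    exact hc ▸ b1.1.comp h

theorem app_comp_injective {B V₀ X : Scheme.{u}} (f : B ⟶ V₀) (i : V₀ ⟶ X) [IsOpenImmersion i] (V : X.Opens)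
    (hV : i ⁻¹ᵁ V = ⊤) (hle : V ≤ i.opensRange) (h : Function.Injective f.appTop.hom) :
    Function.Injective ((f ≫ i).app V).hom := by
  haveI := i.isIso_app V hle
  rw [Scheme.Hom.comp_app]
  show Function.Injective ((f.app (i ⁻¹ᵁ V)).hom ∘ (i.app V).hom)
  refine Function.Injective.comp ?_ (ConcreteCategory.bijective_of_isIso (i.app V)).1
  have key : ∀ U : V₀.Opens, U = ⊤ → Function.Injective (f.app U).hom := by rintro U rfl; exact h
  exact key _ hV

end Groth.Agent.SchDenseMono
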